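import Mathlib.GroupTheory.Sylow
import Mathlib.GroupTheory.Commutator.Basic
import Mathlib.GroupTheory.Index

/-!
# Squares in the derived subgroup

`SqComm H`: the square of every element of `H` lies in `⁅H, H⁆`.  Since `H ⧸ ⁅H, H⁆` is abelian it is enough to
check generators; the property passes to images, hence to the Sylow subgroups of quotients.
-/

set_option autoImplicit false

namespace CfsgLib.LieSylowTwo

open scoped commutatorElement

variable {G G' : Type*} [Group G] [Group G']

/-- The square of every element lies in the derived subgroup. -/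
def SqComm (H : Subgroup G) : Prop := ∀ x ∈ H, x ^ 2 ∈ ⁅H, H⁆

theorem SqComm.mem_commutator {H : Subgroup G} (h : SqComm H) (x : H) : x ^ 2 ∈ commutator H := by
  have h1 := h x x.2
  rw [← H.map_subtype_commutator] at h1
  obtain ⟨y, hy, e⟩ := h1
  have : y = x ^ 2 := Subtype.ext e
  exact this ▸ hy

/-- The elements of `H` with square in `⁅H, H⁆` form a subgroup. -/
def sqSubgroup (H : Subgroup G) : Subgroup G where
  carrier := {x | x ∈ H ∧ x ^ 2 ∈ ⁅H, H⁆}
  one_mem' := ⟨one_mem H, by rw [one_pow]; exact one_mem _⟩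
  mul_mem' := fun {a b} ⟨ha, ha2⟩ ⟨hb, hb2⟩ => by
    refine ⟨mul_mem ha hb, ?_⟩
    have e : (a * b) ^ 2 = a ^ 2 * ⁅a⁻¹, b⁆ * b ^ 2 := by
      rw [commutatorElement_def, pow_two, pow_two, pow_two]; group
    rw [e]
    exact mul_mem (mul_mem ha2 (Subgroup.commutator_mem_commutator (inv_mem ha) hb)) hb2
  inv_mem' := fun {a} ⟨ha, ha2⟩ => ⟨inv_mem ha, by rw [inv_pow]; exact inv_mem ha2⟩

theorem sqSubgroup_le (H : Subgroup G) : sqSubgroup H ≤ H := fun _ hx => hx.1

theorem SqComm.le_sqSubgroup {H : Subgroup G} (h : SqComm H) : H ≤ sqSubgroup H :=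
  fun x hx => ⟨hx, h x hx⟩

theorem mem_sqSubgroup_of_sq {H : Subgroup G} {x : G} (hx : x ∈ H) (h : x ^ 2 = 1) :
    x ∈ sqSubgroup H := ⟨hx, by rw [h]; exact one_mem _⟩

theorem sqSubgroup_mono {K H : Subgroup G} (h : K ≤ H) : sqSubgroup K ≤ sqSubgroup H :=
  fun _ ⟨hx, hx2⟩ => ⟨h hx, Subgroup.commutator_mono h h hx2⟩

theorem sqComm_of_le {H : Subgroup G} (h : H ≤ sqSubgroup H) : SqComm H := fun _ hx => (h hx).2

theorem sqComm_bot : SqComm (⊥ : Subgroup G) := fun x hx => by
  rw [Subgroup.mem_bot.1 hx, one_pow]; exact one_mem _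

theorem SqComm.map {H : Subgroup G} (h : SqComm H) (f : G →* G') : SqComm (H.map f) := by
  rintro _ ⟨x, hx, rfl⟩
  rw [← map_pow, ← Subgroup.map_commutator]
  exact Subgroup.mem_map_of_mem f (h x hx)

theorem SqComm.subgroupOf {H K : Subgroup G} (h : SqComm H) (hle : H ≤ K) :
    SqComm (H.subgroupOf K) := by
  intro x hx
  have h1 := h (x : G) hx
  have h2 : ⁅H, H⁆ = ⁅H.subgroupOf K, H.subgroupOf K⁆.map K.subtype := by
    rw [Subgroup.map_commutator, Subgroup.map_subgroupOf_eq_of_le hle]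
  rw [h2] at h1
  obtain ⟨y, hy, e⟩ := h1
  have : y = x ^ 2 := Subtype.ext e
  exact this ▸ hy

/-- One good Sylow subgroup makes all Sylow subgroups of a quotient good. -/
theorem sqComm_sylow {p : ℕ} [Fact p.Prime] [Finite G] (f : G →* G')
    (hf : Function.Surjective f) (S : Sylow p G) (hS : SqComm (S : Subgroup G)) (P : Sylow p G') :
    SqComm (P : Subgroup G') := by
  have : Finite G' := Finite.of_surjective f hf
  obtain ⟨g, hg⟩ := MulAction.exists_smul_eq G' (S.mapSurjective hf) P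
  rw [← hg]
  exact (hS.map f).map (MulAut.conj g).toMonoidHom

/-- A `2`-subgroup of odd index with good squares. -/
theorem sqComm_sylow_of_index [Finite G] (f : G →* G') (hf : Function.Surjective f) (U : Subgroup G)
    (hU : IsPGroup 2 U) (hi : ¬ 2 ∣ U.index) (hS : SqComm U) (P : Sylow 2 G') :
    SqComm (P : Subgroup G') :=
  haveI : Fact (Nat.Prime 2) := ⟨Nat.prime_two⟩
  sqComm_sylow f hf (hU.toSylow hi) hS P

/-- A group of matrices: the index is read off the orders. -/
theorem sqComm_sylow_of_card [Finite G] {H U : Subgroup G} (hle : U ≤ H) (hS : SqComm U)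
    (hU : IsPGroup 2 U) {X : ℕ} (hcard : Nat.card H ∣ Nat.card U * X) (hX : Odd X)
    (e : H ≃* G') (P : Sylow 2 G') : SqComm (P : Subgroup G') := by
  refine sqComm_sylow_of_index e.toMonoidHom e.surjective (U.subgroupOf H)
    (hU.comap_of_injective _ H.subtype_injective) ?_ (hS.subgroupOf hle) P
  rw [← (U.subgroupOf H).card_mul_index,
    Nat.card_congr (Subgroup.subgroupOfEquivOfLe hle).toEquiv] at hcard
  exact fun h2 => Nat.not_even_iff_odd.2 (hX.of_dvd_nat
    ((Nat.mul_dvd_mul_iff_left Nat.card_pos).1 hcard)) (even_iff_two_dvd.2 h2)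

end CfsgLib.LieSylowTwo
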