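import Cfsg.Agent.LieSylowTwo.Frame
import Cfsg.Agent.LieCharP.Linear
import Cfsg.Agent.LieCharP.Symplectic
import Cfsg.Agent.LieCharP.Unitary
import Cfsg.Agent.LieCharP.Orthogonal

/-!
# The classical groups in characteristic two

For `SL_n` every element of a Sylow subgroup is a product of transvections along a fixed flag; the other
groups are instances of `FormData`.
-/

set_option autoImplicit false

namespace CfsgLib.LieSylowTwo

open Matrix Module CfsgLib.LieCharP

theorem eq_bot_of_fix_all {F : Type*} [Field F] {ι : Type*} [Fintype ι] [DecidableEq ι]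
    {G : Type*} [Group G] [Finite G] {ρ : G →* Matrix ι ι F} (hρ : Function.Injective ρ)
    {P : Subgroup G} (h : ∀ g ∈ P, ∀ v, ρ g *ᵥ v = v) : P = ⊥ :=
  (Subgroup.eq_bot_iff_forall P).2 fun g hg =>
    hρ (Matrix.ext_iff_mulVec.2 fun v => by rw [h g hg, map_one, one_mulVec])

section linear

variable {F : Type*} [Field F] [Finite F] [CharP F 2] {n : ℕ}

theorem sqComm_sylow_SL (hn : 1 ≤ n) (P : Sylow 2 (Matrix.SpecialLinearGroup (Fin n) F)) :
    SqComm (P : Subgroup (Matrix.SpecialLinearGroup (Fin n) F)) := by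
  haveI : Nonempty (Fin n) := ⟨⟨0, hn⟩⟩
  haveI : Fact (Nat.Prime 2) := ⟨Nat.prime_two⟩
  set ρ := Cfsg.slToMat n F
  suffices key : ∀ (k : ℕ) (W : Submodule F (Fin n → F)), n - finrank F W ≤ k →
      (P : Subgroup _) ≤ stab ρ W → ∀ g ∈ (P : Subgroup _), (∀ w ∈ W, ρ g *ᵥ w = w) →
        g ∈ sqSubgroup (P : Subgroup _) by
    refine sqComm_of_le fun g hg => key n ⊥ (by omega) (fun x _ w hw => ?_) g hg (fun w hw => ?_)
    · rw [(Submodule.mem_bot F).1 hw, mulVec_zero]; exact Submodule.zero_mem _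
    · rw [(Submodule.mem_bot F).1 hw, mulVec_zero]
  intro k
  induction k with
  | zero =>
    intro W hk _ g _ hg
    have hW : W = ⊤ := Submodule.eq_top_of_finrank_eq
      (le_antisymm (Submodule.finrank_le W) (by rw [Module.finrank_fin_fun]; omega))
    have : g = 1 := slToMat_injective (Matrix.ext_iff_mulVec.2 fun v => by
      rw [map_one, one_mulVec]; exact hg v (hW ▸ Submodule.mem_top))
    rw [this]; exact one_mem _
  | succ k ih =>
    intro W hk hPW g hgP hg
    by_cases hW : W = ⊤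
    · have : g = 1 := slToMat_injective (Matrix.ext_iff_mulVec.2 fun v => by
        rw [map_one, one_mulVec]; exact hg v (hW ▸ Submodule.mem_top))
      rw [this]; exact one_mem _
    obtain ⟨b, -, hbW, hb⟩ := exists_fixed_mod ρ 2 P.2 (A := W) (B := ⊤)
      (fun u hu a ha => hPW hu a ha) (fun _ _ _ _ => trivial) (fun h => hW (eq_top_iff.2 h))
    set W' := W ⊔ (F ∙ b) with hW'
    have hlt : W < W' := left_lt_sup.2 fun h => hbW (h (Submodule.mem_span_singleton_self b))
    have hPW' : (P : Subgroup _) ≤ stab ρ W' := by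
      intro u hu v hv
      obtain ⟨v₁, hv₁, v₂, hv₂, rfl⟩ := Submodule.mem_sup.1 hv
      obtain ⟨c, rfl⟩ := Submodule.mem_span_singleton.1 hv₂
      rw [mulVec_add, mulVec_smul, show ρ u *ᵥ b = (ρ u *ᵥ b - b) + b by abel, smul_add,
        ← add_assoc]
      exact Submodule.mem_sup.2 ⟨_, W.add_mem (hPW hu v₁ hv₁) (W.smul_mem c (hb u hu)), _, hv₂, rfl⟩
    set w := ρ g *ᵥ b - b with hw
    have hwW : w ∈ W := hb g hgP
    obtain ⟨φ, hφW, hφb⟩ := exists_vec_dual hbW
    set t := slTransv w φ (hφW w hwW)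
    have ht : ∀ v, ρ t *ᵥ v = v + (φ ⬝ᵥ v) • w := slTransv_mulVec w φ _
    have htP : t ∈ (P : Subgroup _) := by
      have hle : unipFlag ρ W W le_rfl ≤ (P : Subgroup _) :=
        (MaxTwo.of_sylow P rfl).le_of_normalized le_top (isPGroup_unipFlag ρ 2 slToMat_injective W W le_rfl)
          ((le_inf hPW hPW).trans (stab_le_normalizer_unipFlag ρ W W le_rfl))
      refine hle ⟨fun v => ?_, fun v hv => ?_, fun v hv => ?_⟩
      · rw [ht, add_sub_cancel_left]; exact W.smul_mem _ hwW
      · rw [ht, hφW v hv, zero_smul, add_zero, sub_self]; exact W.zero_mem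
      · rw [ht, hφW v hv, zero_smul, add_zero]
    have hrec : t * g ∈ sqSubgroup (P : Subgroup _) := by
      refine ih W' ?_ hPW' _ (mul_mem htP hgP) fun v hv => ?_
      · have := Submodule.finrank_lt_finrank_of_lt hlt
        omega
      · obtain ⟨v₁, hv₁, v₂, hv₂, rfl⟩ := Submodule.mem_sup.1 hv
        obtain ⟨c, rfl⟩ := Submodule.mem_span_singleton.1 hv₂
        rw [map_mul, ← mulVec_mulVec, mulVec_add, hg v₁ hv₁, mulVec_smul,
          show ρ g *ᵥ b = b + w by rw [hw]; abel, ht]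
        simp only [dotProduct_add, dotProduct_smul, hφW v₁ hv₁, hφW w hwW, hφb, smul_eq_mul]
        match_scalars
        all_goals first
          | ring1
          | exact CharTwo.neg_eq c
          | linear_combination c * (CharTwo.two_eq_zero (R := F))
          | linear_combination -c * (CharTwo.two_eq_zero (R := F))
    rw [← inv_mul_cancel_left t g]
    refine mul_mem (inv_mem (mem_sqSubgroup_of_sq htP ?_)) hrec
    refine slToMat_injective (Matrix.ext_iff_mulVec.2 fun v => ?_)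
    rw [pow_two, map_mul, map_one, one_mulVec, ← mulVec_mulVec, ht, ht, dotProduct_add,
      dotProduct_smul, hφW w hwW, smul_zero, add_zero, add_assoc, ← add_smul,
      CharTwo.add_self_eq_zero, zero_smul, add_zero]

theorem sqComm_sylow_PSL (hn : 1 ≤ n) {G' : Type*} [Group G']
    (e : Matrix.ProjectiveSpecialLinearGroup (Fin n) F ≃* G') (P : Sylow 2 G') :
    SqComm (P : Subgroup G') := by
  haveI : Fact (Nat.Prime 2) := ⟨Nat.prime_two⟩
  obtain ⟨S⟩ := (inferInstance : Nonempty (Sylow 2 (Matrix.SpecialLinearGroup (Fin n) F)))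
  exact sqComm_sylow (e.toMonoidHom.comp (QuotientGroup.mk' _))
    (e.surjective.comp (QuotientGroup.mk'_surjective _)) S (sqComm_sylow_SL hn S) P

end linear

section symplectic

open CfsgLib.Forms CfsgLib.Forms4

variable {F : Type*} [Field F] [Finite F] [CharP F 2] {m : ℕ}

/-- The symplectic form data. -/
noncomputable def spData :
    FormData (Matrix.symplecticGroup (Fin m) F).subtype where
  h := Cfsg.sympForm m F
  σ := RingHom.id F
  Ok := fun _ => True
  inj := Subtype.val_injective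
  lin := sympLeftLinear
  conj u v := by rw [RingHom.id_apply, sympForm_swap v u, CharTwo.neg_eq]
  inv g u v := sympForm_map g u v
  sep u hu := by
    obtain ⟨z, hz⟩ : ∃ z, Cfsg.sympForm m F u z ≠ 0 := by
      by_contra! h
      exact hu (sympForm_sep u h)
    exact ⟨(-(Cfsg.sympForm m F u z))⁻¹ • z, by
      rw [sympForm_smul_left, sympForm_swap u z, inv_mul_cancel₀ (neg_ne_zero.2 hz)]⟩
  ok_iso e _ := sympForm_self e
  diag w := Or.inl (sympForm_self w)
  mixed e v _ hve := by
    obtain ⟨A, hA⟩ := exists_mixed (u := e) (v := v) (by rw [sympForm_swap, hve, neg_zero])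
    exact ⟨0, A, fun a => by rw [zero_mul, add_zero]; exact hA a⟩
  transv e f k g _ _ _ := ⟨spTransv e k, fun a => sympTransvection_mulVec e a k⟩

theorem sqComm_sylow_PSp (hm : 1 ≤ m) {G' : Type*} [Group G']
    (e : Cfsg.PSp m F ≃* G') (P : Sylow 2 G') : SqComm (P : Subgroup G') := by
  haveI : Fact (Nat.Prime 2) := ⟨Nat.prime_two⟩
  haveI : Nonempty (Fin m ⊕ Fin m) := ⟨.inl ⟨0, hm⟩⟩
  set D := spData (F := F) (m := m)
  obtain ⟨S⟩ := (inferInstance : Nonempty (Sylow 2 (Matrix.symplecticGroup (Fin m) F)))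
  refine sqComm_sylow (e.toMonoidHom.comp (QuotientGroup.mk' _))
    (e.surjective.comp (QuotientGroup.mk'_surjective _)) S
    (D.sqComm_sylow_self (fun W R hR hR2 hW => ?_) S) P
  by_cases hH : D.orth W = ⊥
  · refine Or.inl (eq_bot_of_fix_all D.inj fun g hg v => hR hg v ?_)
    rw [hH, sup_bot_eq] at hW
    exact hW ▸ Submodule.mem_top
  · obtain ⟨b, hb, hb0, hbR⟩ := exists_fixed_vector (Matrix.symplecticGroup (Fin m) F).subtype 2 hR2
      (B := D.orth W) (fun u hu v hv => D.orth_stable W (hR hu) v hv) hH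
    exact Or.inr ⟨b, hb, hb0, trivial, hbR⟩

end symplectic

section unitary

open CfsgLib.RepBounds.Unit

variable {F : Type*} [Field F] [Fintype F] [CharP F 2] (C : ConjField F) {ι : Type*} [Fintype ι]
  [DecidableEq ι]

/-- The matrix representation. -/
def suRep : suG C ι →* Matrix ι ι F where
  toFun g := g.1.1
  map_one' := rfl
  map_mul' _ _ := rfl

theorem suRep_apply (g : suG C ι) (a : ι → F) : suRep C g *ᵥ a = app C g a := rfl

/-- The Hermitian form data. -/
noncomputable def suData : FormData (suRep C (ι := ι)) where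
  h := herm C
  σ := C.σ
  Ok := fun e => herm C e e = 0
  inj := fun _ _ h => Subtype.ext (Subtype.ext h)
  lin := hermLeftLinear C
  conj := conj_herm C
  inv g u v := herm_app C g u v
  sep u hu := exists_herm_eq C hu 1
  ok_iso _ h := h
  diag _ := Or.inr C.exists_trace_one
  mixed e v he hve := by
    obtain ⟨μ, A, hA⟩ := exists_herm_mixed C he hve
    refine ⟨μ, A, fun a => ?_⟩
    rw [suRep_apply, hA]
    match_scalars <;>
      first
        | ring1
        | linear_combination (herm C a v) * (CharTwo.two_eq_zero (R := F))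
        | linear_combination -(herm C a v) * (CharTwo.two_eq_zero (R := F))
  transv e f k g he hfe hg := by
    have h := herm_app C g f f
    rw [← suRep_apply, hg, herm_add_left, herm_add_right, herm_add_right, herm_smul_left,
      herm_smul_left, herm_smul_right, herm_smul_right, he, hfe, ← conj_herm C f e, hfe, map_one]
      at h
    have hk : k ∈ C.skew := by
      rw [C.mem_skew]
      linear_combination h
    exact ⟨transvEl C e k he hk, fun a => isTransv_transvEl C e k he hk a⟩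

theorem exists_isotropic_fixed_su [Nonempty ι] (W : Submodule F (ι → F))
    (R : Subgroup (suG C ι)) (hR : R ≤ fixSub (suRep C) W) (hR2 : IsPGroup 2 R)
    (hW : W ⊔ (suData C).orth W = ⊤) :
    R = ⊥ ∨ ∃ e ∈ (suData C).orth W, e ≠ 0 ∧ herm C e e = 0 ∧
      ∀ g ∈ R, suRep C g *ᵥ e = e := by
  haveI : Fact (Nat.Prime 2) := ⟨Nat.prime_two⟩
  set D := suData C (ι := ι)
  set H := D.orth W
  by_cases hH : H = ⊥
  · refine Or.inl (eq_bot_of_fix_all D.inj fun g hg v => hR hg v ?_)
    rw [hH, sup_bot_eq] at hW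
    exact hW ▸ Submodule.mem_top
  obtain ⟨r, hr, hr0, hrR⟩ := exists_fixed_vector (suRep C) 2 hR2
    (B := H) (fun u hu v hv => D.orth_stable W (hR hu) v hv) hH
  by_cases hrr : herm C r r = 0
  · exact Or.inr ⟨r, hr, hr0, hrr, hrR⟩
  by_cases hK : H ⊓ D.orth (F ∙ r) = ⊥
  · -- the orthogonal is the fixed line
    refine Or.inl (eq_bot_of_fix_all D.inj fun g hg v => ?_)
    obtain ⟨v₁, hv₁, v₂, hv₂, rfl⟩ := Submodule.mem_sup.1 (hW ▸ Submodule.mem_top : v ∈ W ⊔ H)
    have h0 : v₂ - (herm C v₂ r / herm C r r) • r = 0 := by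
      rw [← Submodule.mem_bot (R := F), ← hK]
      refine ⟨H.sub_mem hv₂ (H.smul_mem _ hr), D.mem_orth_span.2 ?_⟩
      show herm C (v₂ - _) r = 0
      rw [herm_sub_left, herm_smul_left, div_mul_cancel₀ _ hrr, sub_self]
    rw [sub_eq_zero] at h0
    rw [mulVec_add, hR hg v₁ hv₁, h0, mulVec_smul, hrR g hg]
  obtain ⟨b, hb, hb0, hbR⟩ := exists_fixed_vector (suRep C) 2 hR2
    (B := H ⊓ D.orth (F ∙ r)) (fun u hu v hv =>
      ⟨D.orth_stable W (hR hu) v hv.1, D.orth_stable (F ∙ r) (fun w hw => by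
        obtain ⟨c, rfl⟩ := Submodule.mem_span_singleton.1 hw
        rw [mulVec_smul, hrR u hu]) v hv.2⟩) hK
  by_cases hbb : herm C b b = 0
  · exact Or.inr ⟨b, hb.1, hb0, hbb, hbR⟩
  have hbr : herm C b r = 0 := D.mem_orth_span.1 hb.2
  have hrb : herm C r b = 0 := by rw [← conj_herm C b r, hbr, map_zero]
  obtain ⟨t, ht⟩ : ∃ t, t * C.σ t = -(herm C r r / herm C b b) :=
    CfsgLib.Forms.exists_mul_involution_eq C.ne_id C.invol (by
      rw [map_neg, map_div₀, herm_self_fixed, herm_self_fixed])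
  refine Or.inr ⟨r + t • b, H.add_mem hr (H.smul_mem t hb.1), fun h => hrr ?_, ?_, fun g hg => ?_⟩
  · have := congrArg (fun x => herm C x r) h
    simpa [herm_add_left, herm_smul_left, hbr, herm_zero_left] using this
  · rw [herm_add_left, herm_add_right, herm_add_right, herm_smul_left, herm_smul_left,
      herm_smul_right, herm_smul_right, hrb, hbr]
    have : t * C.σ t * herm C b b = -herm C r r := by
      rw [ht, neg_mul, div_mul_cancel₀ _ hbb]
    linear_combination this
  · rw [mulVec_add, mulVec_smul, hrR g hg, hbR g hg]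

theorem sqComm_sylow_PSU {n q : ℕ} (hF : Fintype.card F = q ^ 2) (hn : 1 ≤ n)
    {G' : Type*} [Group G'] (e : Cfsg.PSU n F q ≃* G') (P : Sylow 2 G') :
    SqComm (P : Subgroup G') := by
  haveI : Fact (Nat.Prime 2) := ⟨Nat.prime_two⟩
  obtain ⟨C, hq⟩ := exists_conjField q hF
  subst hq
  haveI : Nonempty (Fin n) := ⟨⟨0, by omega⟩⟩
  suffices key : ∀ H : Subgroup (Matrix.SpecialLinearGroup (Fin n) F), H = suG C (Fin n) →
      ∀ (_ : (H ⧸ Subgroup.center H) ≃* G'), SqComm (P : Subgroup G') from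
    key _ (suG_fin_eq C n).symm e
  rintro H rfl e
  obtain ⟨S⟩ := (inferInstance : Nonempty (Sylow 2 (suG C (Fin n))))
  exact sqComm_sylow (e.toMonoidHom.comp (QuotientGroup.mk' _))
    (e.surjective.comp (QuotientGroup.mk'_surjective _)) S
    ((suData C).sqComm_sylow_self (exists_isotropic_fixed_su C) S) P

end unitary

section orthogonal

open CfsgLib.Spinor CfsgLib.Forms CfsgLib.Forms4

variable {F : Type*} [Field F] [Fintype F] [CharP F 2] {ι : Type} [Fintype ι] [DecidableEq ι]
  {Q : QuadraticForm F (ι → F)} (hQ : (QuadraticMap.polarBilin Q).Nondegenerate)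
  (hn : 5 ≤ Fintype.card ι) (T : TwoPairs Q)

/-- The quadratic form data. -/
noncomputable def omegaData : FormData (omegaRep Q) where
  h := QuadraticMap.polar (⇑Q)
  σ := RingHom.id F
  Ok := fun e => Q e = 0
  inj := omegaRep_injective Q
  lin := polarLeftLinear Q
  conj u v := QuadraticMap.polar_comm _ u v
  inv := omegaRep_polar Q
  sep u hu := by
    obtain ⟨z, hz⟩ : ∃ z, QuadraticMap.polar (⇑Q) u z ≠ 0 := by
      by_contra! h
      exact hu (hQ.1 u fun z => h z)
    exact ⟨(QuadraticMap.polar (⇑Q) u z)⁻¹ • z, by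
      rw [QuadraticMap.polar_comm, QuadraticMap.polar_smul_right, smul_eq_mul, inv_mul_cancel₀ hz]⟩
  ok_iso e he := by rw [QuadraticMap.polar_self, he, smul_zero]
  diag w := Or.inl (by rw [QuadraticMap.polar_self, two_nsmul, CharTwo.add_self_eq_zero])
  mixed e v he hve := by
    have hev : QuadraticMap.polar (⇑Q) e v = 0 := by rw [QuadraticMap.polar_comm, hve]
    have hE : eichIso Q e v he hev ∈ Cfsg.Omega F ⇑Q := by
      rw [TwoPairs.omega_eq_eichGroup hQ hn T]
      exact eichIso_mem Q _ _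
    refine ⟨Q v, ⟨_, hE⟩, fun a => ?_⟩
    show eich Q e v *ᵥ a = _
    rw [eich_mulVec, QuadraticMap.polar_comm (⇑Q) e a, QuadraticMap.polar_comm (⇑Q) v a]
    match_scalars <;>
      first
        | ring1
        | linear_combination (QuadraticMap.polar (⇑Q) a v + Q v * QuadraticMap.polar (⇑Q) a e) *
            (CharTwo.two_eq_zero (R := F))
        | linear_combination -(QuadraticMap.polar (⇑Q) a v + Q v * QuadraticMap.polar (⇑Q) a e) *
            (CharTwo.two_eq_zero (R := F))
  transv e f k g he hfe hg := by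
    have h := quad_mulVec Q g.1 f
    change Q (omegaRep Q g *ᵥ f) = Q f at h
    rw [hg, QuadraticMap.map_add (⇑Q), QuadraticMap.map_smul, he, QuadraticMap.polar_smul_right,
      hfe, smul_zero, add_zero, smul_eq_mul, mul_one, add_eq_left] at h
    exact ⟨1, fun a => by rw [map_one, one_mulVec, h, zero_mul, zero_smul, add_zero]⟩

include hQ hn in
theorem exists_singular_fixed_omega [Nonempty ι] (W : Submodule F (ι → F))
    (R : Subgroup ↥(Cfsg.Omega F ⇑Q)) (hR : R ≤ fixSub (omegaRep Q) W) (hR2 : IsPGroup 2 R)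
    (hW : W ⊔ (omegaData hQ hn T).orth W = ⊤) :
    R = ⊥ ∨ ∃ e ∈ (omegaData hQ hn T).orth W, e ≠ 0 ∧ Q e = 0 ∧
      ∀ g ∈ R, omegaRep Q g *ᵥ e = e := by
  haveI : Fact (Nat.Prime 2) := ⟨Nat.prime_two⟩
  set D := omegaData hQ hn T
  set H := D.orth W
  by_cases hH : H = ⊥
  · refine Or.inl (eq_bot_of_fix_all D.inj fun g hg v => hR hg v ?_)
    rw [hH, sup_bot_eq] at hW
    exact hW ▸ Submodule.mem_top
  obtain ⟨r, hr, hr0, hrR⟩ := exists_fixed_vector (omegaRep Q) 2 hR2
    (B := H) (fun u hu v hv => D.orth_stable W (hR hu) v hv) hH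
  by_cases hQr : Q r = 0
  · exact Or.inr ⟨r, hr, hr0, hQr, hrR⟩
  have hline : ∀ u ∈ R, ∀ a ∈ (F ∙ r), omegaRep Q u *ᵥ a = a := fun u hu a ha => by
    obtain ⟨c, rfl⟩ := Submodule.mem_span_singleton.1 ha
    rw [mulVec_smul, hrR u hu]
  by_cases hK : H ⊓ D.orth (F ∙ r) ≤ (F ∙ r)
  · -- a nonsingular hyperplane is fixed
    refine Or.inl ((Subgroup.eq_bot_iff_forall R).2 fun g hg =>
      eq_one_of_fix_hyperplane hQ hn hr0 fun v hv => ?_)
    obtain ⟨v₁, hv₁, v₂, hv₂, rfl⟩ := Submodule.mem_sup.1 (hW ▸ Submodule.mem_top : v ∈ W ⊔ H)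
    have h2 : v₂ ∈ (F ∙ r) := hK ⟨hv₂, D.mem_orth_span.2 (by
      have h1 : QuadraticMap.polar (⇑Q) v₁ r = 0 := D.eq_zero_swap (hr v₁ hv₁)
      rw [QuadraticMap.polar_add_left, h1, zero_add] at hv
      exact hv)⟩
    rw [mulVec_add, hR hg v₁ hv₁, hline g hg v₂ h2]
  obtain ⟨b, hb, hbr, hbR⟩ := exists_fixed_mod (omegaRep Q) 2 hR2 (A := F ∙ r)
    (B := H ⊓ D.orth (F ∙ r)) (fun u hu a ha => by rw [hline u hu a ha]; exact ha)
    (fun u hu v hv => ⟨D.orth_stable W (hR hu) v hv.1,
      D.orth_stable (F ∙ r) (fun w hw => hline u hu w hw) v hv.2⟩) hK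
  have hpol : QuadraticMap.polar (⇑Q) b r = 0 := D.mem_orth_span.1 hb.2
  have hbfix : ∀ u ∈ R, omegaRep Q u *ᵥ b = b := fun u hu => by
    obtain ⟨c, hc⟩ := Submodule.mem_span_singleton.1 (hbR u hu)
    have e : omegaRep Q u *ᵥ b = b + c • r := by rw [hc]; abel
    have h2 := quad_mulVec Q u.1 b
    change Q (omegaRep Q u *ᵥ b) = Q b at h2
    rw [e, QuadraticMap.map_add (⇑Q), QuadraticMap.map_smul, QuadraticMap.polar_smul_right, hpol,
      smul_zero, add_zero, add_eq_left, smul_eq_zero] at h2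
    rw [e, mul_self_eq_zero.1 (h2.resolve_right hQr), zero_smul, add_zero]
  obtain ⟨c, hc⟩ := FiniteField.isSquare_of_char_two (ringChar.eq F 2) (Q b / Q r)
  refine Or.inr ⟨b + c • r, H.add_mem hb.1 (H.smul_mem c hr), fun h => hbr ?_, ?_, fun g hg => ?_⟩
  · exact Submodule.mem_span_singleton.2 ⟨-c, by rw [neg_smul, eq_neg_of_add_eq_zero_left h]⟩
  · rw [QuadraticMap.map_add (⇑Q), QuadraticMap.map_smul, QuadraticMap.polar_smul_right, hpol,
      smul_zero, add_zero, smul_eq_mul, ← hc, div_mul_cancel₀ _ hQr, CharTwo.add_self_eq_zero]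
  · rw [mulVec_add, mulVec_smul, hbfix g hg, hrR g hg]

include hQ hn T in
theorem sqComm_sylow_POmega {G' : Type*} [Group G'] (e : Cfsg.POmega F ⇑Q ≃* G')
    (P : Sylow 2 G') : SqComm (P : Subgroup G') := by
  haveI : Fact (Nat.Prime 2) := ⟨Nat.prime_two⟩
  haveI : Nonempty ι := Fintype.card_pos_iff.1 (by omega)
  obtain ⟨S⟩ := (inferInstance : Nonempty (Sylow 2 ↥(Cfsg.Omega F ⇑Q)))
  exact sqComm_sylow (e.toMonoidHom.comp (QuotientGroup.mk' _))
    (e.surjective.comp (QuotientGroup.mk'_surjective _)) S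
    ((omegaData hQ hn T).sqComm_sylow_self (exists_singular_fixed_omega hQ hn T) S) P

end orthogonal

section standard

variable {F : Type*} [Field F] [Fintype F] [CharP F 2] {G' : Type*} [Group G']

theorem sqComm_sylow_POmegaPlus (m : ℕ) (hm : 3 ≤ m)
    (e : Cfsg.POmega F (Cfsg.quadFormPlus m F) ≃* G') (P : Sylow 2 G') :
    SqComm (P : Subgroup G') := by
  revert e
  rw [← CfsgLib.StdForms.coe_plusQ]
  exact fun e => sqComm_sylow_POmega (CfsgLib.StdForms.plusQ_nondegenerate m) (by simp; omega)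
    (CfsgLib.Forms4.plusPairs m (by omega)) e P

theorem sqComm_sylow_POmegaMinus (k : ℕ) (hk : 3 ≤ k) (a b : F)
    (hab : ∀ z₁ z₂ : F, z₁ ^ 2 + a * z₁ * z₂ + b * z₂ ^ 2 = 0 → z₁ = 0 ∧ z₂ = 0)
    (e : Cfsg.POmega F (Cfsg.quadFormMinus k F a b) ≃* G') (P : Sylow 2 G') :
    SqComm (P : Subgroup G') := by
  revert e
  rw [← CfsgLib.StdForms.coe_minusQ]
  exact fun e => sqComm_sylow_POmega
    (CfsgLib.StdForms.minusQ_nondegenerate k (CfsgLib.Forms4.disc_ne_zero hab)) (by simp; omega)
    (CfsgLib.Forms4.minusPairs k (by omega) a b) e P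

end standard

end CfsgLib.LieSylowTwo
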