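import Cfsg.Agent.LieSylowTwo.Basic
import Cfsg.Agent.ChevParabolic.FStarParabolic
import Cfsg.Agent.ChevParabolic.Sylow
import Cfsg.Agent.Chevalley.GroupOrder
import Cfsg.Agent.Chevalley.Frames
import Cfsg.Agent.Chevalley.WeylData
import Cfsg.Agent.GraphTwist.OrderD4
import Cfsg.Agent.GraphTwist.OrderE6
import Cfsg.Prelude.Def_LieTypeChar

/-!
# Exceptional Chevalley groups and the two graph twists in characteristic two

`U` is generated by root elements, resp. orbit root elements, which are involutions.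
-/

set_option autoImplicit false

namespace CfsgLib.LieSylowTwo

open Cfsg.Lie CfsgLib CfsgLib.Chevalley CfsgLib.GraphTwist

variable {K : Type*} [Field K] [Finite K] [CharP K 2]

theorem sqComm_pos {D : ChevalleyDatum} (hD : Good D) : SqComm (D.posUnipotent K) := by
  refine sqComm_of_le ?_
  conv_lhs => rw [posUnipotent_eq_closure hD]
  rw [Subgroup.closure_le]
  rintro _ ⟨r, hr, t, rfl⟩
  refine mem_sqSubgroup_of_sq ?_ (by rw [pow_two, X_mul, CharTwo.add_self_eq_zero, X_zero])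
  rw [posUnipotent_eq_closure hD]
  exact Subgroup.subset_closure ⟨r, hr, t, rfl⟩

theorem odd_sub_one {q : ℕ} (hq : Even q) (h1 : 1 ≤ q) (n : ℕ) (hn : n ≠ 0) : Odd (q ^ n - 1) :=
  Nat.Even.sub_odd (Nat.one_le_pow _ _ h1) (hq.pow_of_ne_zero hn) odd_one

theorem exists_card_eq : ∃ n : ℕ, n ≠ 0 ∧ Nat.card K = 2 ^ n := by
  haveI := Fintype.ofFinite K
  obtain ⟨n, -, hn⟩ := FiniteField.card K 2
  exact ⟨n, n.ne_zero, by rw [Nat.card_eq_fintype_card, hn]⟩

theorem sqComm_sylow_chev {D : ChevalleyDatum}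
    (hD : D ∈ [chevG2, chevB2, chevD4, chevF4, chevE6, chevE7, chevE8]) {G' : Type*} [Group G']
    (e : D.group K ≃* G') (P : Sylow 2 G') : SqComm (P : Subgroup G') := by
  classical
  obtain ⟨C, M, R, h⟩ := exists_rootGood_of_mem hD
  have hW : GoodWeyl D := goodWeyl_of_mem hD
  have := h.finite_group
  letI := Fintype.ofFinite M.Group
  haveI : Fact (Nat.Prime 2) := ⟨Nat.prime_two⟩
  refine sqComm_sylow_of_card (ChevParabolic.pos_le_group hW.good) (sqComm_pos hW.good)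
    (haveI := Fintype.ofFinite K; ChevParabolic.isPGroup_posUnipotent (F := K) hW 2)
    (X := Nat.card (D.diagonalSubgroup K) * ∑ w : M.Group, Nat.card K ^ M.toCoxeterSystem.length w)
    ?_ ?_ e P
  · rw [natCard_group hW h, posUnipotent_eq hW.good, natCard_uGe hW.toGoodUni, mul_assoc]
  · obtain ⟨n, hn, hq⟩ := exists_card_eq (K := K)
    have hev : Even (Nat.card K) := by rw [hq]; exact Nat.even_pow.2 ⟨even_two, hn⟩
    refine Odd.mul ?_ ?_
    · refine (((odd_sub_one hev Nat.card_pos 1 one_ne_zero)).pow (n := D.rank)).of_dvd_nat ?_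
      rw [diagonalSubgroup_eq_range hW, pow_one]
      refine (Subgroup.card_range_dvd (torHom D K)).trans ?_
      rw [Nat.card_pi, Finset.prod_const, Finset.card_univ, Fintype.card_fin, Nat.card_units]
    · rw [← Finset.add_sum_erase _ _ (Finset.mem_univ (1 : M.Group)), CoxeterSystem.length_one, pow_zero]
      refine Even.one_add (even_iff_two_dvd.2 (Finset.dvd_sum fun w hw => dvd_pow (even_iff_two_dvd.1 hev) fun hl => ?_))
      exact (Finset.mem_erase.1 hw).1 ((M.toCoxeterSystem.length_eq_zero_iff).1 hl)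

theorem sqComm_U1 {D : ChevalleyDatum} {τ : Setup D} (Φ : FieldTwist τ K) : SqComm Φ.U1 := by
  refine sqComm_of_le (Φ.u1_induction fun i x hx => mem_sqSubgroup_of_sq ?_ ?_)
  · exact Subgroup.mem_inf.2 ⟨Φ.oX_mem_pos (τ.rep_pos i) x, Φ.oX_mem_fix hx⟩
  · rw [pow_two, Φ.oX_mul, CharTwo.add_self_eq_zero, Φ.oX_zero]

theorem even_of_card {q k : ℕ} (hK : Nat.card K = q ^ k) : Even q := by
  obtain ⟨n, hn, e⟩ := exists_card_eq (K := K)
  have : Even (q ^ k) := by rw [← hK, e]; exact Nat.even_pow.2 ⟨even_two, hn⟩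
  exact (Nat.even_pow.1 this).1

theorem isPGroup_U1 {D : ChevalleyDatum} {τ : Setup D} (Φ : FieldTwist τ K) : IsPGroup 2 Φ.U1 :=
  haveI : Fact (Nat.Prime 2) := ⟨Nat.prime_two⟩
  haveI := Fintype.ofFinite K
  (ChevParabolic.isPGroup_posUnipotent (F := K) τ.good 2).to_le fun _ h => (Subgroup.mem_inf.1 h).1

theorem sqComm_sylow_E6 [Fintype K] {q : ℕ} (hq : IsPrimePow q) (hK : Fintype.card K = q ^ 2)
    {G' : Type*} [Group G'] (e : twistedE6 K q ≃* G') (P : Sylow 2 G') :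
    SqComm (P : Subgroup G') := by
  obtain ⟨Φ, hΦ, -, hfix, hK', -⟩ := twistedE6_eq_tG hq hK
  have hc := natCard_twistedE6 hq hK
  rw [hΦ] at hc
  have hev : Even q := even_of_card hK'
  refine sqComm_sylow_of_card Φ.U1_le_tG (sqComm_U1 Φ) (isPGroup_U1 Φ)
    (X := (q ^ 2 - 1) * (q ^ 5 + 1) * (q ^ 6 - 1) * (q ^ 8 - 1) * (q ^ 9 + 1) * (q ^ 12 - 1)) ?_ ?_
    ((MulEquiv.subgroupCongr hΦ).symm.trans e) P
  · have hU : Nat.card Φ.U1 = q ^ 36 := Φ.natCard_u1 hfix hK'
    rw [hU]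
    exact (Dvd.intro_left _ hc).trans (dvd_of_eq (by ring))
  · have h1 := hq.one_lt.le
    refine (((((Odd.mul ?_ ?_).mul ?_).mul ?_).mul ?_).mul ?_) <;>
      first
        | exact odd_sub_one hev h1 _ (by norm_num)
        | exact (hev.pow_of_ne_zero (by norm_num)).add_one

theorem sqComm_sylow_D4 [Fintype K] {q : ℕ} (hq : IsPrimePow q) (hK : Fintype.card K = q ^ 3)
    {G' : Type*} [Group G'] (e : twistedD4 K q ≃* G') (P : Sylow 2 G') :
    SqComm (P : Subgroup G') := by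
  obtain ⟨Φ, hΦ, -, hfix, hK', -⟩ := twistedD4_eq_tG hq hK
  have hc := natCard_twistedD4 hq hK
  rw [hΦ] at hc
  have hev : Even q := even_of_card hK'
  refine sqComm_sylow_of_card Φ.U1_le_tG (sqComm_U1 Φ) (isPGroup_U1 Φ)
    (X := (q ^ 2 - 1) * (q ^ 6 - 1) * (q ^ 8 + q ^ 4 + 1)) ?_ ?_
    ((MulEquiv.subgroupCongr hΦ).symm.trans e) P
  · have hU : Nat.card Φ.U1 = q ^ 12 := Φ.natCard_u1 hfix hK'
    rw [hU, hc]
    exact dvd_of_eq (by ring)
  · have h1 := hq.one_lt.le
    exact ((odd_sub_one hev h1 2 (by norm_num)).mul (odd_sub_one hev h1 6 (by norm_num))).mul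
      ((hev.pow_of_ne_zero (by norm_num)).add (hev.pow_of_ne_zero (by norm_num))).add_one

end CfsgLib.LieSylowTwo
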