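import Cfsg.Agent.LieSylowTwo.Basic
import Cfsg.Agent.LieCharP.Form

/-!
# Sylow 2-subgroups of isometry groups in characteristic two

`P` is a maximal 2-subgroup of the pointwise stabiliser `L` of a nondegenerate subspace `W`.  It fixes an
isotropic `e ⊥ W`; with `f ⊥ W`, `h f e = 1`, it is the product of the unipotent radical `Q` of `e` in
`L` and of a maximal 2-subgroup of the stabiliser of `W + ⟨e, f⟩`.  The square of an element of `Q` moves
`f` by `h w w • e`, which is a commutator of two elements of `Q`.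
-/

set_option autoImplicit false

namespace CfsgLib.LieSylowTwo

open Matrix Module CfsgLib.LieCharP
open scoped commutatorElement

/-- A maximal `2`-subgroup of `L`. -/
structure MaxTwo {G : Type*} [Group G] (L P : Subgroup G) : Prop where
  le : P ≤ L
  isPGroup : IsPGroup 2 P
  max : ∀ T : Subgroup G, T ≤ L → IsPGroup 2 T → P ≤ T → T ≤ P

theorem MaxTwo.of_sylow {G : Type*} [Group G] (P : Sylow 2 G) {L : Subgroup G} (hL : L = ⊤) :
    MaxTwo L (P : Subgroup G) :=
  ⟨hL ▸ le_top, P.2, fun _ _ hT hPT => (P.3 hT hPT).le⟩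

/-- A normalised `2`-subgroup of `L` lies in a maximal one. -/
theorem MaxTwo.le_of_normalized {G : Type*} [Group G] {L P Q : Subgroup G} (h : MaxTwo L P)
    (hQL : Q ≤ L) (hQ : IsPGroup 2 Q) (hn : P ≤ Subgroup.normalizer (Q : Set G)) : Q ≤ P :=
  le_sup_right.trans
    (h.max (P ⊔ Q) (sup_le h.le hQL) (h.isPGroup.to_sup_of_normal_right' hQ hn) le_sup_left)

variable {F : Type*} [Field F] {ι : Type*} [Fintype ι] [DecidableEq ι]
variable {G : Type*} [Group G] [Finite G] (ρ : G →* Matrix ι ι F)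

/-- The pointwise stabiliser of a subspace. -/
def fixSub (W : Submodule F (ι → F)) : Subgroup G where
  carrier := {g | ∀ w ∈ W, ρ g *ᵥ w = w}
  one_mem' := fun w _ => by rw [map_one, one_mulVec]
  mul_mem' := fun {a b} ha hb w hw => by rw [map_mul, ← mulVec_mulVec, hb w hw, ha w hw]
  inv_mem' := fun {a} ha w hw => by
    conv_lhs => rw [← ha w hw, mulVec_mulVec, ← map_mul, inv_mul_cancel, map_one, one_mulVec]

theorem fixSub_bot : fixSub ρ (⊥ : Submodule F (ι → F)) = ⊤ :=
  eq_top_iff.2 fun g _ w hw => by rw [(Submodule.mem_bot F).1 hw, mulVec_zero]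

/-- What the recursion uses of a form. -/
structure FormData where
  h : (ι → F) → (ι → F) → F
  σ : F →+* F
  Ok : (ι → F) → Prop
  inj : Function.Injective ρ
  lin : LeftLinear h
  conj : ∀ u v, σ (h u v) = h v u
  inv : ∀ g u v, h (ρ g *ᵥ u) (ρ g *ᵥ v) = h u v
  sep : ∀ u, u ≠ 0 → ∃ a, h a u = 1
  ok_iso : ∀ e, Ok e → h e e = 0
  diag : ∀ w, h w w = 0 ∨ ∃ t, t + σ t = 1
  mixed : ∀ e v, Ok e → h v e = 0 →
    ∃ (μ : F) (A : G), ∀ a, ρ A *ᵥ a = a + h a e • v + (h a v + μ * h a e) • e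
  transv : ∀ e f (k : F) (g : G), Ok e → h f e = 1 → ρ g *ᵥ f = f + k • e →
    ∃ t : G, ∀ a, ρ t *ᵥ a = a + (k * h a e) • e

namespace FormData

variable {ρ} (D : FormData ρ)

omit [Finite G] in
theorem add_right (u v v' : ι → F) : D.h u (v + v') = D.h u v + D.h u v' := by
  rw [← D.conj (v + v') u, D.lin.add, map_add, D.conj, D.conj]

omit [Finite G] in
theorem smul_right (c : F) (u v : ι → F) : D.h u (c • v) = D.σ c * D.h u v := by
  rw [← D.conj (c • v) u, D.lin.smul, map_mul, D.conj]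

omit [Finite G] in
theorem eq_zero_swap {u v : ι → F} (e : D.h u v = 0) : D.h v u = 0 := by
  rw [← D.conj u v, e, map_zero]

/-- The orthogonal of a subspace. -/
def orth (W : Submodule F (ι → F)) : Submodule F (ι → F) := perp D.lin W

theorem orth_stable (W : Submodule F (ι → F)) :
    fixSub ρ W ≤ stab ρ (D.orth W) := by
  intro g hg v hv w hw
  rw [← hg w hw, D.inv]
  exact hv w hw

/-- The radical of an isotropic vector inside the stabiliser of `W`. -/
def rad (e : ι → F) (W : Submodule F (ι → F)) (hM : (F ∙ e) ≤ D.orth (F ∙ e)) : Subgroup G :=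
  fixSub ρ W ⊓ unipFlag ρ (F ∙ e) (D.orth (F ∙ e)) hM

omit [Finite G] in
theorem mem_orth_span {e v : ι → F} : v ∈ D.orth (F ∙ e) ↔ D.h v e = 0 := by
  refine ⟨fun h => h e (Submodule.mem_span_singleton_self e), fun h w hw => ?_⟩
  obtain ⟨c, rfl⟩ := Submodule.mem_span_singleton.1 hw
  rw [D.smul_right, h, mul_zero]

theorem rad_normalized (e : ι → F) (W : Submodule F (ι → F)) (hM : (F ∙ e) ≤ D.orth (F ∙ e)) :
    fixSub ρ W ⊓ fixSub ρ (F ∙ e) ≤ Subgroup.normalizer (D.rad e W hM : Set G) := by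
  have hle : fixSub ρ W ⊓ fixSub ρ (F ∙ e) ≤
      stab ρ (F ∙ e) ⊓ stab ρ (D.orth (F ∙ e)) := fun g hg =>
    ⟨fun w hw => by rw [hg.2 w hw]; exact hw, D.orth_stable _ hg.2⟩
  intro g hg
  refine Subgroup.mem_normalizer_iff.2 fun u => ?_
  have h1 := Subgroup.mem_normalizer_iff.1 (Subgroup.le_normalizer hg.1) u
  have h2 := Subgroup.mem_normalizer_iff.1 (stab_le_normalizer_unipFlag ρ _ _ hM (hle hg)) u
  exact ⟨fun hu => ⟨h1.1 hu.1, h2.1 hu.2⟩, fun hu => ⟨h1.2 hu.1, h2.2 hu.2⟩⟩

variable {e f : ι → F} {W : Submodule F (ι → F)}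

/-- How an element of the radical moves everything. -/
theorem rad_apply [CharP F 2] (hM : (F ∙ e) ≤ D.orth (F ∙ e)) (hfe : D.h f e = 1) {g : G}
    (hg : g ∈ unipFlag ρ (F ∙ e) (D.orth (F ∙ e)) hM) {w : ι → F} (hw : ρ g *ᵥ f = f + w)
    (v : ι → F) : D.h w e = 0 ∧
      ρ g *ᵥ v = v + D.h v e • w + (D.h v w + D.h v e * D.h f w) • e := by
  obtain ⟨g1, g2, -⟩ := hg
  have hwe : D.h w e = 0 := by
    have := D.mem_orth_span.1 (g1 f)
    rwa [hw, add_sub_cancel_left] at this
  refine ⟨hwe, ?_⟩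
  set k := D.h v e with hk
  set y := v - k • f with hy
  have hye : D.h y e = 0 := by rw [hy, D.lin.sub, D.lin.smul, hfe, mul_one, sub_self]
  obtain ⟨a, ha⟩ := Submodule.mem_span_singleton.1 (g2 y (D.mem_orth_span.2 hye))
  have hgy : ρ g *ᵥ y = y + a • e := by rw [ha]; abel
  have hinv := D.inv g y f
  rw [hgy, hw, D.lin.add, D.add_right, D.add_right, D.lin.smul, D.lin.smul, D.eq_zero_swap hwe,
    mul_zero, add_zero, add_assoc, add_eq_left] at hinv
  have hef : D.h e f = 1 := by rw [← D.conj f e, hfe, map_one]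
  rw [hef, mul_one] at hinv
  have ha' : a = D.h v w + k * D.h f w := by
    rw [CharTwo.add_eq_zero, hy, D.lin.sub, D.lin.smul, CharTwo.sub_eq_add] at hinv
    exact hinv.symm
  calc ρ g *ᵥ v = ρ g *ᵥ (y + k • f) := by rw [hy, sub_add_cancel]
    _ = _ := by
      rw [mulVec_add, mulVec_smul, hgy, hw, ← ha', hy]
      module

/-- The square of an element of the radical. -/
theorem rad_sq_apply [CharP F 2] (hM : (F ∙ e) ≤ D.orth (F ∙ e)) (hfe : D.h f e = 1) {g : G}
    (hg : g ∈ unipFlag ρ (F ∙ e) (D.orth (F ∙ e)) hM) {w : ι → F} (hw : ρ g *ᵥ f = f + w)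
    (v : ι → F) : ρ (g * g) *ᵥ v = v + (D.h v e * D.h w w) • e := by
  obtain ⟨hwe, hv⟩ := D.rad_apply hM hfe hg hw v
  have g3 := hg.2.2
  have hgw := (D.rad_apply hM hfe hg hw w).2
  rw [hwe, zero_smul, add_zero, zero_mul, add_zero] at hgw
  rw [map_mul, ← mulVec_mulVec, hv, mulVec_add, mulVec_add, mulVec_smul, mulVec_smul, hv, hgw,
    g3 e (Submodule.mem_span_singleton_self e)]
  match_scalars
  · rfl
  · linear_combination D.h v e * (CharTwo.two_eq_zero (R := F))
  · linear_combination (D.h v w + D.h v e * D.h f w) * (CharTwo.two_eq_zero (R := F))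

theorem mixed_mem_rad (hM : (F ∙ e) ≤ D.orth (F ∙ e)) (hee : D.h e e = 0) (heW : e ∈ D.orth W)
    {v : ι → F} (hve : D.h v e = 0) (hvW : v ∈ D.orth W) {μ : F} {A : G}
    (hA : ∀ a, ρ A *ᵥ a = a + D.h a e • v + (D.h a v + μ * D.h a e) • e) :
    A ∈ D.rad e W hM := by
  refine ⟨fun a ha => ?_, fun a => ?_, fun a ha => ?_, fun a ha => ?_⟩
  · rw [hA, D.eq_zero_swap (heW a ha), D.eq_zero_swap (hvW a ha)]
    simp
  · rw [hA, add_assoc, add_sub_cancel_left]
    exact Submodule.add_mem _ (Submodule.smul_mem _ _ (D.mem_orth_span.2 hve))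
      (Submodule.smul_mem _ _ (D.mem_orth_span.2 hee))
  · rw [hA, D.mem_orth_span.1 ha, zero_smul, add_zero, add_sub_cancel_left]
    exact Submodule.smul_mem _ _ (Submodule.mem_span_singleton_self e)
  · obtain ⟨c, rfl⟩ := Submodule.mem_span_singleton.1 ha
    rw [hA, D.lin.smul, D.lin.smul, hee, D.eq_zero_swap hve]
    simp

theorem transv_mem_rad (hM : (F ∙ e) ≤ D.orth (F ∙ e)) (hee : D.h e e = 0) (heW : e ∈ D.orth W)
    {k : F} {t : G} (ht : ∀ a, ρ t *ᵥ a = a + (k * D.h a e) • e) : t ∈ D.rad e W hM := by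
  refine ⟨fun a ha => ?_, fun a => ?_, fun a ha => ?_, fun a ha => ?_⟩
  · rw [ht, D.eq_zero_swap (heW a ha)]
    simp
  · rw [ht, add_sub_cancel_left]
    exact Submodule.smul_mem _ _ (D.mem_orth_span.2 hee)
  · rw [ht, add_sub_cancel_left]
    exact Submodule.smul_mem _ _ (Submodule.mem_span_singleton_self e)
  · obtain ⟨c, rfl⟩ := Submodule.mem_span_singleton.1 ha
    rw [ht, D.lin.smul, hee]
    simp

/-- The radical has its squares in its derived subgroup. -/
theorem rad_sq [CharP F 2] (hM : (F ∙ e) ≤ D.orth (F ∙ e)) (hok : D.Ok e) (heW : e ∈ D.orth W)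
    (hfW : f ∈ D.orth W) (hfe : D.h f e = 1) : SqComm (D.rad e W hM) := by
  intro g hg
  set w := ρ g *ᵥ f - f with hwdef
  have hw : ρ g *ᵥ f = f + w := by rw [hwdef]; abel
  have hwW : w ∈ D.orth W := (D.orth W).sub_mem (D.orth_stable W hg.1 f hfW) hfW
  have hwe := (D.rad_apply hM hfe hg.2 hw f).1
  have hsq := D.rad_sq_apply hM hfe hg.2 hw
  rcases D.diag w with hww | ⟨t, ht⟩
  · have : g ^ 2 = 1 := D.inj (Matrix.ext_iff_mulVec.2 fun v => by
      rw [pow_two, hsq, hww, mul_zero, zero_smul, add_zero, map_one, one_mulVec])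
    rw [this]; exact one_mem _
  obtain ⟨μ₁, A, hA⟩ := D.mixed e w hok hwe
  have htwe : D.h (t • w) e = 0 := by rw [D.lin.smul, hwe, mul_zero]
  obtain ⟨μ₂, B, hB⟩ := D.mixed e (t • w) hok htwe
  have hee := D.ok_iso e hok
  have hAm := D.mixed_mem_rad hM hee heW hwe hwW hA
  have hBm := D.mixed_mem_rad hM hee heW htwe ((D.orth W).smul_mem t hwW) hB
  have key : g * g * (B * A) = A * B := D.inj (Matrix.ext_iff_mulVec.2 fun v => by
    have hew := D.eq_zero_swap hwe
    rw [map_mul ρ (g * g), map_mul ρ B A, map_mul ρ A B, ← mulVec_mulVec, ← mulVec_mulVec, ← mulVec_mulVec, hsq,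
      hA v, hB v, hB, hA]
    simp only [D.lin.add, D.lin.smul, hwe, hee, hew, D.smul_right, mul_zero, add_zero]
    have e2 : D.σ t = 1 + t := by
      linear_combination ht - t * (CharTwo.two_eq_zero (R := F))
    simp only [e2]
    match_scalars <;>
      first
        | ring1
        | linear_combination (D.h v e * D.h w w) * (CharTwo.two_eq_zero (R := F))
        | linear_combination -(D.h v e * D.h w w) * (CharTwo.two_eq_zero (R := F)))
  rw [pow_two, eq_mul_inv_of_mul_eq key, _root_.mul_inv_rev, ← mul_assoc, ← commutatorElement_def]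
  exact Subgroup.commutator_mem_commutator hAm hBm

/-- The recursion. -/
theorem sqComm_of_maxTwo [CharP F 2] [Nonempty ι]
    (hfix : ∀ (W : Submodule F (ι → F)) (P : Subgroup G), P ≤ fixSub ρ W → IsPGroup 2 P →
      W ⊔ D.orth W = ⊤ →
        P = ⊥ ∨ ∃ e ∈ D.orth W, e ≠ 0 ∧ D.Ok e ∧ ∀ g ∈ P, ρ g *ᵥ e = e) :
    ∀ (n : ℕ) (W : Submodule F (ι → F)) (P : Subgroup G), finrank F (D.orth W) ≤ n →
      W ⊔ D.orth W = ⊤ → MaxTwo (fixSub ρ W) P → SqComm P := by
  haveI : Fact (Nat.Prime 2) := ⟨Nat.prime_two⟩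
  intro n
  induction n with
  | zero =>
    intro W P hn hW hP
    rcases hfix W P hP.le hP.isPGroup hW with rfl | ⟨e, he, he0, -, -⟩
    · exact sqComm_bot
    · exact absurd ((Submodule.mem_bot F).1
        (Submodule.finrank_eq_zero.1 (Nat.le_zero.1 hn) ▸ he)) he0
  | succ n ih =>
    intro W P hn hW hP
    rcases hfix W P hP.le hP.isPGroup hW with rfl | ⟨e, heW, he0, hok, hPe⟩
    · exact sqComm_bot
    have hee := D.ok_iso e hok
    -- the partner
    obtain ⟨a, ha⟩ := D.sep e he0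
    obtain ⟨s, hs, f, hfW, rfl⟩ := Submodule.mem_sup.1 (hW ▸ Submodule.mem_top : a ∈ W ⊔ D.orth W)
    have hfe : D.h f e = 1 := by
      rwa [D.lin.add, D.eq_zero_swap (heW s hs), zero_add] at ha
    have hM : (F ∙ e) ≤ D.orth (F ∙ e) :=
      (Submodule.span_singleton_le_iff_mem _ _).2 (D.mem_orth_span.2 hee)
    set Q := D.rad e W hM with hQdef
    set W' := W ⊔ ((F ∙ e) ⊔ (F ∙ f)) with hW'def
    have hWW' : W ≤ W' := le_sup_left
    have heW' : (F ∙ e) ≤ W' := le_sup_left.trans le_sup_right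
    have hfW' : (F ∙ f) ≤ W' := le_sup_right.trans le_sup_right
    have hQp : IsPGroup 2 Q := (isPGroup_unipFlag ρ 2 D.inj _ _ hM).to_le inf_le_right
    have hPe' : P ≤ fixSub ρ (F ∙ e) := fun g hg v hv => by
      obtain ⟨c, rfl⟩ := Submodule.mem_span_singleton.1 hv
      rw [mulVec_smul, hPe g hg]
    have hQP : Q ≤ P := hP.le_of_normalized inf_le_left hQp
      ((le_inf hP.le hPe').trans (D.rad_normalized e W hM))
    set P' := P ⊓ fixSub ρ W'
    -- every element moves into `P'`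
    have hdec : ∀ g ∈ P, ∃ q ∈ Q, q * g ∈ P' := by
      intro g hg
      set f' := ρ g *ᵥ f with hf'
      have hf'W : f' ∈ D.orth W := D.orth_stable W (hP.le hg) f hfW
      have hf'e : D.h f' e = 1 := by
        have := D.inv g f e
        rwa [hPe g hg, hfe] at this
      set v := f' - f with hv
      have hve : D.h v e = 0 := by rw [hv, D.lin.sub, hf'e, hfe, sub_self]
      have hvW : v ∈ D.orth W := (D.orth W).sub_mem hf'W hfW
      obtain ⟨μ, A, hA⟩ := D.mixed e v hok hve
      have hAm := D.mixed_mem_rad hM hee heW hve hvW hA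
      have hAg : ρ (A * g) *ᵥ f = f + (D.h f' v + μ) • e := by
        rw [map_mul, ← mulVec_mulVec, ← hf', hA, hf'e, mul_one, one_smul, hv]
        match_scalars
        all_goals first
          | ring1
          | exact CharTwo.neg_eq 1
          | linear_combination (CharTwo.two_eq_zero (R := F))
          | linear_combination -(CharTwo.two_eq_zero (R := F))
      obtain ⟨t, ht⟩ := D.transv e f _ (A * g) hok hfe hAg
      refine ⟨t * A, mul_mem (D.transv_mem_rad hM hee heW ht) hAm, ?_⟩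
      have hmem : t * A * g ∈ P :=
        mul_mem (hQP (mul_mem (D.transv_mem_rad hM hee heW ht) hAm)) hg
      refine ⟨hmem, ?_⟩
      have h1 : ρ (t * A * g) *ᵥ f = f := by
        rw [mul_assoc, map_mul, ← mulVec_mulVec, hAg, ht, D.lin.add, D.lin.smul, hee, hfe]
        match_scalars
        · rfl
        · linear_combination (D.h f' v + μ) * (CharTwo.two_eq_zero (R := F))
      intro x hx
      obtain ⟨x₁, hx₁, x₂, hx₂, rfl⟩ := Submodule.mem_sup.1 hx
      obtain ⟨x₃, hx₃, x₄, hx₄, rfl⟩ := Submodule.mem_sup.1 hx₂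
      obtain ⟨c, rfl⟩ := Submodule.mem_span_singleton.1 hx₄
      rw [mulVec_add, mulVec_add, mulVec_smul, hP.le hmem x₁ hx₁, hPe' hmem x₃ hx₃, h1]
    have hmax : MaxTwo (fixSub ρ W') P' := by
      refine ⟨inf_le_right, hP.isPGroup.to_le inf_le_left, fun T hTW hT hle => le_inf ?_ hTW⟩
      have hTL : T ≤ fixSub ρ W := fun g hg w hw => hTW hg w (hWW' hw)
      have hTn : T ≤ Subgroup.normalizer (Q : Set G) := fun g hg =>
        D.rad_normalized e W hM ⟨hTL hg, fun w hw => hTW hg w (heW' hw)⟩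
      refine le_sup_left.trans (hP.max (T ⊔ Q) (sup_le hTL inf_le_left)
        (hT.to_sup_of_normal_right' hQp hTn) fun g hg => ?_)
      obtain ⟨q, hq, hqg⟩ := hdec g hg
      rw [← inv_mul_cancel_left q g]
      exact mul_mem (Subgroup.mem_sup_right (inv_mem hq)) (Subgroup.mem_sup_left (hle hqg))
    have hlt : finrank F (D.orth W') ≤ n := by
      have h1 : D.orth W' < D.orth W := by
        refine lt_of_le_not_ge (fun x hx w hw => hx w (hWW' hw)) fun hge => ?_
        have := hge heW f (hfW' (Submodule.mem_span_singleton_self f))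
        rw [← D.conj f e, hfe, map_one] at this
        exact one_ne_zero this
      have := Submodule.finrank_lt_finrank_of_lt h1
      omega
    have hcompl : W' ⊔ D.orth W' = ⊤ := by
      refine eq_top_iff.2 fun x _ => ?_
      obtain ⟨x₁, hx₁, x₂, hx₂, rfl⟩ := Submodule.mem_sup.1 (hW ▸ Submodule.mem_top : x ∈ W ⊔ D.orth W)
      set k := D.h x₂ e
      set y := x₂ - k • f - (D.h x₂ f - k * D.h f f) • e with hy
      have hef : D.h e f = 1 := by rw [← D.conj f e, hfe, map_one]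
      have hye : D.h y e = 0 := by
        rw [hy, D.lin.sub, D.lin.sub, D.lin.smul, D.lin.smul, hfe, hee]; ring
      have hyf : D.h y f = 0 := by
        rw [hy, D.lin.sub, D.lin.sub, D.lin.smul, D.lin.smul, hef]; ring
      have hyW : y ∈ D.orth W' := by
        intro w hw
        obtain ⟨w₁, hw₁, w₂, hw₂, rfl⟩ := Submodule.mem_sup.1 hw
        obtain ⟨w₃, hw₃, w₄, hw₄, rfl⟩ := Submodule.mem_sup.1 hw₂
        obtain ⟨c, rfl⟩ := Submodule.mem_span_singleton.1 hw₃
        obtain ⟨c', rfl⟩ := Submodule.mem_span_singleton.1 hw₄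
        have h1 : D.h y w₁ = 0 :=
          ((D.orth W).sub_mem ((D.orth W).sub_mem hx₂ ((D.orth W).smul_mem _ hfW))
            ((D.orth W).smul_mem _ heW)) w₁ hw₁
        rw [D.add_right, D.add_right, D.smul_right, D.smul_right, hye, hyf, h1]
        simp
      refine Submodule.mem_sup.2 ⟨x₁ + (k • f + (D.h x₂ f - k * D.h f f) • e), ?_, y, hyW, ?_⟩
      · exact W'.add_mem (hWW' hx₁) (W'.add_mem
          (W'.smul_mem _ (hfW' (Submodule.mem_span_singleton_self f)))
          (W'.smul_mem _ (heW' (Submodule.mem_span_singleton_self e))))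
      · rw [hy]; abel
    have hP' : SqComm P' := ih W' P' hlt hcompl hmax
    refine sqComm_of_le fun g hg => ?_
    obtain ⟨q, hq, hqg⟩ := hdec g hg
    rw [← inv_mul_cancel_left q g]
    exact mul_mem (inv_mem (sqSubgroup_mono hQP ((D.rad_sq hM hok heW hfW hfe).le_sqSubgroup hq)))
      (sqSubgroup_mono inf_le_left (hP'.le_sqSubgroup hqg))

/-- Every Sylow `2`-subgroup has its squares in the derived subgroup. -/
theorem sqComm_sylow_self [CharP F 2] [Nonempty ι]
    (hfix : ∀ (W : Submodule F (ι → F)) (P : Subgroup G), P ≤ fixSub ρ W → IsPGroup 2 P →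
      W ⊔ D.orth W = ⊤ →
        P = ⊥ ∨ ∃ e ∈ D.orth W, e ≠ 0 ∧ D.Ok e ∧ ∀ g ∈ P, ρ g *ᵥ e = e)
    (P : Sylow 2 G) : SqComm (P : Subgroup G) := by
  refine D.sqComm_of_maxTwo hfix _ ⊥ P le_rfl ?_ (MaxTwo.of_sylow P (fixSub_bot ρ))
  refine eq_top_iff.2 fun v _ => Submodule.mem_sup_right fun w hw => ?_
  rw [(Submodule.mem_bot F).1 hw, ← zero_smul F v, D.smul_right, map_zero, zero_mul]

end FormData

end CfsgLib.LieSylowTwo
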