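import Cfsg.Agent.LieSylowTwo.Exceptional
import Cfsg.Agent.ReeF4.Perfect
import Cfsg.Agent.ReeF4.Count
import Cfsg.Agent.Suzuki.LieModel
import Cfsg.Agent.Suzuki.Unipotent

/-!
# Suzuki groups and `²F₄(q)`, `q > 2`

The squares are values of the commutator form `θ a c + θ c a`, which takes every value for `q > 2`.
-/

set_option autoImplicit false

namespace CfsgLib.LieSylowTwo

open Cfsg.Lie CfsgLib CfsgLib.Chevalley
open scoped commutatorElement

theorem sqComm_sylow_suzuki {G' : Type*} [Group G'] (h : Cfsg.Lie.IsoSuzuki G') (P : Sylow 2 G') :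
    SqComm (P : Subgroup G') := by
  obtain ⟨F, _, _, m, hm, hF, ⟨e⟩⟩ := h
  have hS : CfsgLib.Suzuki.SzField F m := ⟨hm, hF⟩
  haveI : Fact (Nat.Prime 2) := ⟨Nat.prime_two⟩
  refine sqComm_sylow ((CfsgLib.Suzuki.lieSzEquiv hS).trans e.symm).toMonoidHom
    (MulEquiv.surjective _) (CfsgLib.Suzuki.uniSylow hS) ?_ P
  rw [CfsgLib.Suzuki.uniSylow_coe]
  rintro x ⟨a, b, rfl⟩
  obtain ⟨u, hu, v, hv, e'⟩ := CfsgLib.Suzuki.exists_comm_eq hS (CfsgLib.Suzuki.θ m a * a)
  rw [pow_two, CfsgLib.Suzuki.uniEl_sq, e', ← commutatorElement_def]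
  exact Subgroup.commutator_mem_commutator hu hv

section ReeF4

open CfsgLib.ReeF4

variable {K : Type*} [Field K] [CharP K 2] [Finite K] (T : Tw K)

theorem exists_θ_form (h3 : 3 ≤ Nat.card K) (v : K) :
    ∃ a c : K, T.θ a * c + T.θ c * a = v := by
  have hk : ∃ k : K, T.θ k ≠ k := by
    by_contra! hall
    obtain ⟨s, hs⟩ := exists_unit_ne_one h3
    have h1 := T.θ_θ_sq (s : K)
    rw [hall, hall, pow_two] at h1
    exact hs (Units.ext (mul_right_eq_self₀.1 h1 |>.resolve_right s.ne_zero))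
  obtain ⟨k, hk⟩ := hk
  have hinj : Function.Injective fun l : K => T.θ l * l := by
    intro l m (e : T.θ l * l = T.θ m * m)
    have e2 : T.θ l ^ 2 * l = T.θ m ^ 2 * m := by
      have := congrArg (fun v => T.θ v ^ 2) e
      simp only [map_mul, mul_pow, T.θ_θ_sq] at this
      linear_combination this
    rcases eq_or_ne m 0 with rfl | hm
    · rw [map_zero, zero_mul, mul_eq_zero, map_eq_zero] at e
      exact e.elim id id
    have h4 : T.θ l = T.θ m := by
      have h5 : T.θ m * m * T.θ l = T.θ m * m * T.θ m := by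
        linear_combination e2 - T.θ l * e
      exact mul_left_cancel₀ (mul_ne_zero ((map_ne_zero T.θ).2 hm) hm) h5
    exact T.θ.injective h4
  have hd : k + T.θ k ≠ 0 := fun h => hk (CharTwo.add_eq_zero.1 h).symm
  obtain ⟨l, hl⟩ := (Finite.injective_iff_surjective.1 hinj) (v / (k + T.θ k))
  have hl' : T.θ l * l * (k + T.θ k) = v := by
    rw [show T.θ l * l = _ from hl, div_mul_cancel₀ _ hd]
  refine ⟨l, l * k, ?_⟩
  rw [map_mul]
  linear_combination hl'

theorem clsE_zero : T.clsE false 0 0 = 1 := by simp [Tw.clsE, Tw.clsG, x_zero]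

theorem clsE_zero_comm (t u : K) :
    Commute (T.clsE false 0 t) (T.clsE false 0 u) := by
  simp [Commute, SemiconjBy, T.cls_mul, add_comm]

theorem pairE_sq (t : K) : T.pairE false t * T.pairE false t = 1 := by
  simp only [Tw.pairE, Bool.false_eq_true, if_false]
  calc x K (rt 33) (T.θ t) * x K (rt 24) t * (x K (rt 33) (T.θ t) * x K (rt 24) t)
      = x K (rt 33) (T.θ t) * (x K (rt 24) t * x K (rt 33) (T.θ t)) * x K (rt 24) t := by group
    _ = x K (rt 33) (T.θ t) * x K (rt 33) (T.θ t) * (x K (rt 24) t * x K (rt 24) t) := by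
      rw [(commute_24_33 _ _).eq]; group
    _ = 1 := by simp [x_mul, CharTwo.add_self_eq_zero, x_zero]

theorem lift_mem_U1 (i : Fin 12) (t : K) : T.lift i t ∈ T.U1 := by
  rw [T.U1_eq]
  exact Subgroup.mem_inf.2
    ⟨uS_anti (Nat.zero_le _) (T.lift_mem_uS allS_ok i t (slot_facts _).1), T.lift_fix i t⟩

theorem sqComm_U1_ree (h3 : 3 ≤ Nat.card K) : SqComm T.U1 := by
  refine sqComm_of_le ?_
  conv_lhs => rw [T.U1_eq]
  refine T.uF_le allS_ok (fun i _ t => ?_) 0
  rcases kind_cases i with hk | hk | hk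
  · refine mem_sqSubgroup_of_sq (lift_mem_U1 T i t) ?_
    rw [T.lift_eq, hk, conj_pow, pow_two]
    simp [Tw.baseE, pairE_sq]
  · refine ⟨lift_mem_U1 T i t, ?_⟩
    obtain ⟨a, c, hac⟩ := exists_θ_form T h3 (T.θ t * t)
    have hb : ∀ v : K, T.baseE 1 v = T.clsE false v 0 := fun v => by simp [Tw.baseE]
    have key : T.baseE 1 t * T.baseE 1 t * (T.baseE 1 c * T.baseE 1 a) =
        T.baseE 1 a * T.baseE 1 c := by
      simp only [hb, T.cls_mul]
      congr 1
      · linear_combination t * (CharTwo.two_eq_zero (R := K))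
      · simp only [map_add, zero_add, add_zero, CharTwo.add_self_eq_zero, map_zero, zero_mul]
        linear_combination -hac + (T.θ c * a) * (CharTwo.two_eq_zero (R := K))
    have e : T.lift i t ^ 2 = ⁅T.lift i a, T.lift i c⁆ := by
      rw [T.lift_eq, T.lift_eq, T.lift_eq, hk, conj_pow, pow_two, commutatorElement_def,
        eq_mul_inv_of_mul_eq key]
      group
    rw [e]
    exact Subgroup.commutator_mem_commutator (lift_mem_U1 T i a) (lift_mem_U1 T i c)
  · refine mem_sqSubgroup_of_sq (lift_mem_U1 T i t) ?_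
    rw [T.lift_eq, hk, conj_pow, pow_two]
    simp [Tw.baseE, T.cls_mul, CharTwo.add_self_eq_zero, clsE_zero]

end ReeF4

theorem sqComm_sylow_reeF4 {G' : Type*} [Group G'] (h : Cfsg.Lie.Iso2F4 G') (P : Sylow 2 G') :
    SqComm (P : Subgroup G') := by
  obtain ⟨K, _, _, m, hm, hK, ⟨e⟩⟩ := h
  haveI : CharP K 2 := CfsgLib.ReeF4.charP_of_card hK
  let T := CfsgLib.ReeF4.mkTw hK
  have hc : Nat.card K = 2 ^ (2 * m + 1) := by rw [Nat.card_eq_fintype_card, hK]
  set q := 2 ^ (2 * m + 1) with hq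
  have h8 : 8 ≤ q := (show 8 = 2 ^ 3 by norm_num) ▸ Nat.pow_le_pow_right two_pos (by omega)
  have hev : Even q := Nat.even_pow.2 ⟨even_two, by omega⟩
  refine sqComm_sylow_of_card (H := T.G1) T.U1_le_G1 (sqComm_U1_ree T (by omega))
    (IsPGroup.of_card (n := (2 * m + 1) * 12) (by rw [T.natCard_U1, hc, hq, ← pow_mul]))
    (X := (q - 1) * (q ^ 3 + 1) * (q ^ 4 - 1) * (q ^ 6 + 1)) ?_ ?_
    (e.symm : T.G1 ≃* G') P
  · rw [T.natCard_G1 (q := q) hc, T.natCard_U1, hc]
    exact dvd_of_eq (by ring)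
  · have h1 : 1 ≤ q := by omega
    have := odd_sub_one hev h1 1 one_ne_zero
    rw [pow_one] at this
    exact ((this.mul (hev.pow_of_ne_zero (by norm_num)).add_one).mul
      (odd_sub_one hev h1 4 (by norm_num))).mul (hev.pow_of_ne_zero (by norm_num)).add_one

end CfsgLib.LieSylowTwo
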